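import Mathlib
set_option linter.style.haveILetI false

/-!
Pulling apart a punctual ideal of the plane, in the bivariate polynomial ring `k[y][x]`.
-/

universe u

open Polynomial
set_option synthInstance.maxSize 1024
set_option synthInstance.maxHeartbeats 200000
set_option maxSynthPendingDepth 5
set_option maxHeartbeats 1200000

namespace Groth.Agent.H23PullApart

variable {k : Type u} [Field k]

local notation "𝔹" => Polynomial (Polynomial k)

/-- `y` in `k[y][x]`. -/
noncomputable abbrev yv : Polynomial (Polynomial k) := C X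

/-- Reduction modulo `y`. -/
noncomputable abbrev redY : 𝔹 →+* k[X] := mapRingHom (evalRingHom (0 : k))

lemma redY_map_C (p : k[X]) : redY (p.map (C : k →+* k[X])) = p := by
  show (p.map C).map (evalRingHom 0) = p
  rw [Polynomial.map_map, show (evalRingHom (0 : k)).comp C = RingHom.id k from
    RingHom.ext fun c => eval_C, Polynomial.map_id]

lemma exists_eq_yv_mul {r : 𝔹} (h : redY r = 0) : ∃ z, r = yv * z := by
  have hd : C (X : k[X]) ∣ r := by
    rw [C_dvd_iff_dvd_coeff]
    intro i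
    rw [X_dvd_iff, coeff_zero_eq_eval_zero]
    have := congrArg (fun p : k[X] => p.coeff i) h
    simpa using this
  exact hd

lemma redY_yv : redY (yv (k := k)) = 0 := by
  simp [redY, yv]

variable (a : Ideal (Polynomial (Polynomial k)))

lemma exists_map_eq_span_X_pow (hx : ∃ M : ℕ, (X : 𝔹) ^ M ∈ a)
    (hle : a ≤ Ideal.span {yv, X}) :
    ∃ e : ℕ, 0 < e ∧ a.map (redY (k := k)) = Ideal.span {(X : k[X]) ^ e} := by
  obtain ⟨M, hM⟩ := hx
  obtain ⟨g, hg⟩ : (a.map (redY (k := k))).IsPrincipal := IsPrincipalIdealRing.principal _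
  have hmem : (X : k[X]) ^ M ∈ a.map (redY (k := k)) := by
    have := Ideal.mem_map_of_mem redY hM
    simpa [redY] using this
  rw [hg, Ideal.submodule_span_eq, Ideal.mem_span_singleton] at hmem
  obtain ⟨e, -, hass⟩ := (dvd_prime_pow Polynomial.prime_X M).1 hmem
  refine ⟨e, ?_, by rw [hg, Ideal.submodule_span_eq]; exact Ideal.span_singleton_eq_span_singleton.2 hass⟩
  by_contra h0
  obtain rfl : e = 0 := by omega
  have htop : a.map (redY (k := k)) = ⊤ := by
    rw [hg, Ideal.submodule_span_eq, Ideal.span_singleton_eq_top]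
    exact hass.symm.isUnit (by simp)
  have h1 : (1 : k[X]) ∈ (Ideal.span {yv (k := k), X}).map (redY (k := k)) :=
    Ideal.map_mono hle (by rw [htop]; trivial)
  rw [Ideal.map_span, Set.image_insert_eq, Set.image_singleton, redY_yv, Ideal.span_insert_zero,
    Ideal.mem_span_singleton, show redY (X : 𝔹) = (X : k[X]) by simp [redY]] at h1
  exact Polynomial.not_isUnit_X (isUnit_of_dvd_one h1)

lemma exists_monic (e N : ℕ) (hmap : a.map (redY (k := k)) = Ideal.span {(X : k[X]) ^ e})
    (hN : yv ^ N ∈ a) :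
    ∃ f ∈ a, f.Monic ∧ f.natDegree = e ∧ redY f = (X : k[X]) ^ e := by
  obtain ⟨a0, ha0, ha0'⟩ := (Ideal.mem_map_iff_of_surjective (redY (k := k))
    (fun p => ⟨_, redY_map_C p⟩)).1 (show (X : k[X]) ^ e ∈ a.map (redY (k := k)) by
      rw [hmap]; exact Ideal.mem_span_singleton_self _)
  have step : ∀ n : ℕ, ∀ b : 𝔹, ∃ R : 𝔹, R.degree < (e : ℕ) ∧ ∃ c : 𝔹, b - R - yv ^ n * c ∈ a := by
    intro n
    induction n with
    | zero => exact fun b => ⟨0, by simp [WithBot.bot_lt_coe], b, by simp⟩
    | succ n ih =>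
      intro b
      obtain ⟨R, hR, c, hc⟩ := ih b
      have hXe : ((X : k[X]) ^ e).Monic := monic_X_pow e
      let r := redY c %ₘ X ^ e
      let q := redY c /ₘ X ^ e
      have hr : r.degree < (e : ℕ) := by
        have := degree_modByMonic_lt (redY c) hXe
        rwa [degree_X_pow] at this
      obtain ⟨c', hc'⟩ := exists_eq_yv_mul (r := c - r.map C - a0 * q.map C) (by
        rw [map_sub, map_sub, map_mul, redY_map_C, redY_map_C, ha0', sub_sub, modByMonic_add_div,
          sub_self])
      refine ⟨R + yv ^ n * r.map C, ?_, c', ?_⟩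
      · refine (degree_add_le _ _).trans_lt (max_lt hR ?_)
        have : (yv (k := k)) ^ n = C (X ^ n) := by simp [yv]
        rw [this, ← smul_eq_C_mul]
        exact (degree_smul_le _ _).trans_lt (degree_map_le.trans_lt hr)
      · have : b - (R + yv ^ n * r.map C) - yv ^ (n + 1) * c' =
            (b - R - yv ^ n * c) + a0 * (yv ^ n * q.map C) := by
          rw [pow_succ, mul_assoc, ← hc']
          ring
        rw [this]
        exact a.add_mem hc (a.mul_mem_right _ ha0)
  obtain ⟨R, hR, c, hc⟩ := step N ((X : 𝔹) ^ e)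
  have hf : (X : 𝔹) ^ e - R ∈ a := by
    have : (X : 𝔹) ^ e - R = (X ^ e - R - yv ^ N * c) + yv ^ N * c := by ring
    rw [this]
    exact a.add_mem hc (a.mul_mem_right _ hN)
  refine ⟨X ^ e - R, hf, monic_X_pow_sub hR, ?_, ?_⟩
  · refine natDegree_eq_of_degree_eq_some ?_
    rw [degree_sub_eq_left_of_degree_lt (by rwa [degree_X_pow]), degree_X_pow]
  · have h0 : redY R = 0 := by
      have hm : redY ((X : 𝔹) ^ e - R) ∈ Ideal.span {(X : k[X]) ^ e} :=
        hmap ▸ Ideal.mem_map_of_mem _ hf
      rw [Ideal.mem_span_singleton] at hm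
      have hd : (X : k[X]) ^ e ∣ redY R := by
        have h2 := dvd_sub (dvd_refl ((X : k[X]) ^ e)) hm
        simpa [redY] using h2
      exact eq_zero_of_dvd_of_degree_lt hd (by rw [degree_X_pow]; exact degree_map_le.trans_lt hR)
    rw [map_sub, h0, sub_zero]
    simp [redY]

lemma eq_sup_yv (e : ℕ) {f : 𝔹} (hfa : f ∈ a) (hfm : f.Monic) (hfd : f.natDegree = e)
    (hmap : a.map (redY (k := k)) = Ideal.span {(X : k[X]) ^ e}) :
    Ideal.span {f} ⊔ Ideal.span {yv} * a.colon {yv} = a := by
  refine le_antisymm (sup_le ((Ideal.span_singleton_le_iff_mem a).2 hfa) ?_) fun z hz => ?_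
  · intro z hz
    obtain ⟨w, hw, rfl⟩ := Ideal.mem_span_singleton_mul.1 hz
    rw [mul_comm]
    exact Submodule.mem_colon_singleton.1 hw
  · have hr : z %ₘ f ∈ a := by
      rw [eq_sub_of_add_eq (modByMonic_add_div z f)]
      exact a.sub_mem hz (a.mul_mem_right _ hfa)
    have hr0 : redY (z %ₘ f) = 0 := by
      refine eq_zero_of_dvd_of_degree_lt (p := (X : k[X]) ^ e) ?_ ?_
      · exact Ideal.mem_span_singleton.1 (hmap ▸ Ideal.mem_map_of_mem _ hr)
      · rw [degree_X_pow]
        refine degree_map_le.trans_lt ((degree_modByMonic_lt z hfm).trans_le ?_)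
        rw [← hfd]
        exact degree_le_natDegree
    obtain ⟨w, hw⟩ := exists_eq_yv_mul hr0
    rw [← modByMonic_add_div z f, hw]
    refine add_mem (Ideal.mem_sup_right (Ideal.mul_mem_mul (Ideal.mem_span_singleton_self _) ?_))
      (Ideal.mem_sup_left (Ideal.mem_span_singleton.2 (dvd_mul_right _ _)))
    rw [Submodule.mem_colon_singleton, smul_eq_mul, mul_comm, ← hw]
    exact hr

variable (f : Polynomial (Polynomial k)) (b : Ideal (Polynomial (Polynomial k)))

/-- The ideal of the family. -/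
noncomputable def famIdeal : Ideal (Polynomial (Polynomial (Polynomial k))) :=
  Ideal.span {C f} ⊔ Ideal.span {C (yv (k := k)) - X} * b.map C

lemma map_eval_famIdeal (c : k) :
    (famIdeal f b).map (evalRingHom (algebraMap k 𝔹 c)) =
      Ideal.span {f} ⊔ Ideal.span {yv - algebraMap k 𝔹 c} * b := by
  rw [famIdeal, Ideal.map_sup, Ideal.map_mul, Ideal.map_map, Ideal.map_span, Ideal.map_span,
    Set.image_singleton, Set.image_singleton,
    show (evalRingHom (algebraMap k 𝔹 c)).comp C = RingHom.id 𝔹 from RingHom.ext fun _ => eval_C,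
    Ideal.map_id]
  simp

section Generic

variable {A : Type u} [CommRing A] [IsDomain A] [Algebra k A]
variable {Q : Type u} [CommRing Q] [Algebra k[X] Q]

theorem finite_flat_gen (f y : A) (hf0 : f ≠ 0) (b : Ideal A) (hfb : f ∈ b) [Module.Finite k (A ⧸ b)]
    [Module.Free k[X] Q] [Module.Finite k[X] Q]
    (π₀ : A →+* Q) (hπ₀ : Function.Surjective π₀) (hker : RingHom.ker π₀ = Ideal.span {f})
    (hy : π₀.comp (aeval y : k[X] →ₐ[k] A).toRingHom = algebraMap k[X] Q) (J : Ideal (Polynomial A))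
    (hJ : J = Ideal.span {C f} ⊔ Ideal.span {C y - X} * b.map C) :
    RingHom.Flat (R := k[X]) (S := Polynomial A ⧸ J)
        ((Ideal.Quotient.mk J).comp (mapRingHom (algebraMap k A))) ∧
      RingHom.Finite (A := k[X]) (B := Polynomial A ⧸ J)
        ((Ideal.Quotient.mk J).comp (mapRingHom (algebraMap k A))) := by
  let θ : k[X] →+* Polynomial A ⧸ J :=
    (Ideal.Quotient.mk J).comp (mapRingHom (algebraMap k A))
  letI : Algebra k[X] (Polynomial A ⧸ J) := θ.toAlgebra
  let S := A ⧸ b
  letI : Algebra k[X] S[X] := Polynomial.algebra k S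
  haveI : Algebra.IsPushout k k[X] S S[X] := inferInstance
  haveI hff : Module.Flat k[X] S[X] := Module.Flat.isBaseChange k k[X] S S[X] (Algebra.IsPushout.out)
  haveI hfin : Module.Finite k[X] S[X] :=
    Module.Finite.equiv (Algebra.IsPushout.out (R := k) (S := k[X]) (R' := S) (S' := S[X])).equiv
  let w : Polynomial A := C y - X
  -- the map to the line `y = t`
  let π : Polynomial A →+* Q := π₀.comp (evalRingHom y)
  have hπ₀f : π₀ f = 0 := (hker.ge (Ideal.mem_span_singleton_self f) : f ∈ RingHom.ker π₀)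
  have hJπ : J ≤ RingHom.ker π := by
    rw [hJ]
    refine sup_le ((Ideal.span_singleton_le_iff_mem _).2 ?_) (Ideal.mul_le_left.trans
      ((Ideal.span_singleton_le_iff_mem _).2 ?_))
    · simp [RingHom.mem_ker, π, hπ₀f]
    · simp [RingHom.mem_ker, π]
  have hπθ : ∀ p : k[X], π (p.map (algebraMap k A)) = algebraMap k[X] Q p := by
    intro p
    rw [← hy]
    show π₀ ((p.map (algebraMap k A)).eval y) = π₀ (aeval y p)
    rw [eval_map, aeval_def]
  let ψ : (Polynomial A ⧸ J) →ₐ[k[X]] Q :=
    { Ideal.Quotient.lift J π fun x hx => hJπ hx with commutes' := hπθ }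
  -- the embedding of the residual family
  let ρ : Polynomial A →+* S[X] := mapRingHom (Ideal.Quotient.mk b)
  have hρker : RingHom.ker ρ = b.map C := by
    rw [show ρ = mapRingHom (Ideal.Quotient.mk b) from rfl, Polynomial.ker_mapRingHom, Ideal.mk_ker]
  have hρs : Function.Surjective ρ := map_surjective _ Ideal.Quotient.mk_surjective
  have hm : ∀ x ∈ b.map C, Ideal.Quotient.mk J (w * x) = 0 := fun x hx =>
    Ideal.Quotient.eq_zero_iff_mem.2 (hJ.ge
      (Ideal.mem_sup_right (Ideal.mul_mem_mul (Ideal.mem_span_singleton_self _) hx)))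
  choose s hs using hρs
  have hinv : ∀ x, Ideal.Quotient.mk J (w * s (ρ x)) = Ideal.Quotient.mk J (w * x) := fun x => by
    rw [← sub_eq_zero, ← map_sub, ← mul_sub]
    exact hm _ (hρker ▸ (by rw [RingHom.mem_ker, map_sub, hs, sub_self]))
  let φ : S[X] →ₗ[k[X]] (Polynomial A ⧸ J) :=
    { toFun := fun z => Ideal.Quotient.mk J (w * s z)
      map_add' := fun z z' => by
        show Ideal.Quotient.mk J (w * s (z + z')) = _
        rw [show z + z' = ρ (s z + s z') by rw [map_add, hs, hs], hinv, mul_add, map_add]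
      map_smul' := fun p z => by
        show Ideal.Quotient.mk J (w * s (p • z)) = θ p * Ideal.Quotient.mk J (w * s z)
        have hpz : p • z = ρ (p.map (algebraMap k A) * s z) := by
          rw [map_mul, hs, Algebra.smul_def]
          congr 1
          show p.map (algebraMap k S) = (p.map (algebraMap k A)).map (Ideal.Quotient.mk b)
          rw [Polynomial.map_map]
          rfl
        rw [hpz, hinv]
        show _ = Ideal.Quotient.mk J (p.map (algebraMap k A)) * _
        rw [← map_mul, mul_left_comm] }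
  have hφinj : Function.Injective φ := by
    rw [injective_iff_map_eq_zero]
    intro z hz
    have hz' : w * s z ∈ Ideal.span {C f} ⊔ Ideal.span {w} * b.map C :=
      hJ.le (Ideal.Quotient.eq_zero_iff_mem.1 hz)
    obtain ⟨_, h1, _, h2, h12⟩ := Submodule.mem_sup.1 hz'
    obtain ⟨q, rfl⟩ := Ideal.mem_span_singleton.1 h1
    obtain ⟨b₁, hb₁, rfl⟩ := Ideal.mem_span_singleton_mul.1 h2
    have hq : (q : Polynomial A).eval y = 0 := by
      have := congrArg (evalRingHom y) h12
      simp only [map_add, map_mul, w, map_sub, coe_evalRingHom, eval_C, eval_X, sub_self, zero_mul,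
        add_zero, mul_eq_zero, hf0, false_or] at this
      exact this
    obtain ⟨q', hq'⟩ := dvd_iff_isRoot.2 hq
    have key : s z = b₁ - C f * q' := by
      have hw0 : w ≠ 0 := by
        intro h0
        have := congrArg (fun p : Polynomial A => p.coeff 1) h0
        simp [w] at this
      refine mul_left_cancel₀ hw0 ?_
      rw [← h12, hq']
      show C f * ((X - C y) * q') + (C y - X) * b₁ = (C y - X) * (b₁ - C f * q')
      ring
    rw [← hs z, key, ← RingHom.mem_ker, hρker]
    exact sub_mem hb₁ (Ideal.mul_mem_right _ _ (Ideal.mem_map_of_mem C hfb))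
  have hψs : Function.Surjective ψ := fun z => by
    obtain ⟨g, rfl⟩ := hπ₀ z
    exact ⟨Ideal.Quotient.mk J (C g), congrArg π₀ eval_C⟩
  have hex : Function.Exact φ ψ.toLinearMap := by
    intro z
    constructor
    · intro hz
      obtain ⟨P, rfl⟩ := Ideal.Quotient.mk_surjective z
      obtain ⟨g, hg⟩ := Ideal.mem_span_singleton.1 (hker.le (show P.eval y ∈ RingHom.ker π₀ from hz))
      obtain ⟨Q', hQ⟩ := X_sub_C_dvd_sub_C_eval (p := P) (a := y)
      refine ⟨ρ (-Q'), ?_⟩
      show Ideal.Quotient.mk J (w * s (ρ (-Q'))) = _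
      rw [hinv, Ideal.Quotient.mk_eq_mk_iff_sub_mem]
      have : w * -Q' - P = C f * (- C g) := by
        have hP : P = (X - C y) * Q' + C (P.eval y) := by rw [← hQ]; ring
        conv_lhs => rw [hP]
        rw [hg, map_mul]
        show (C y - X) * -Q' - ((X - C y) * Q' + C f * C g) = _
        ring
      rw [this]
      exact hJ.ge (Ideal.mem_sup_left (Ideal.mem_span_singleton.2 (dvd_mul_right _ _)))
    · rintro ⟨z, rfl⟩
      show π (w * s z) = 0
      simp [π, w]
  obtain ⟨l, hl⟩ := Module.projective_lifting_property ψ.toLinearMap LinearMap.id hψs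
  obtain ⟨eq, -, -⟩ := (hex.splitSurjectiveEquiv hφinj ⟨l, hl⟩ : _)
  haveI : Module.Flat k[X] (Polynomial A ⧸ J) := Module.Flat.of_linearEquiv eq
  haveI : Module.Finite k[X] (Polynomial A ⧸ J) := Module.Finite.equiv eq.symm
  exact ⟨RingHom.flat_algebraMap_iff.2 inferInstance, RingHom.finite_algebraMap.2 inferInstance⟩

end Generic

theorem finite_flat_famIdeal (hfm : f.Monic) (hfb : f ∈ b) [Module.Finite k (𝔹 ⧸ b)] :
    RingHom.Flat (R := k[X]) (S := Polynomial 𝔹 ⧸ famIdeal f b)
        ((Ideal.Quotient.mk (famIdeal f b)).comp (mapRingHom (algebraMap k 𝔹))) ∧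
      RingHom.Finite (A := k[X]) (B := Polynomial 𝔹 ⧸ famIdeal f b)
        ((Ideal.Quotient.mk (famIdeal f b)).comp (mapRingHom (algebraMap k 𝔹))) := by
  haveI : Module.Free k[X] (AdjoinRoot f) := hfm.free_adjoinRoot
  haveI : Module.Finite k[X] (AdjoinRoot f) := hfm.finite_adjoinRoot
  refine finite_flat_gen (Q := AdjoinRoot f) f yv hfm.ne_zero b hfb (AdjoinRoot.mk f)
    AdjoinRoot.mk_surjective ?_ ?_ _ rfl
  · exact Ideal.mk_ker
  · have : (aeval (yv (k := k)) : k[X] →ₐ[k] 𝔹).toRingHom = (C : k[X] →+* 𝔹) := by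
      refine Polynomial.ringHom_ext (fun c => ?_) ?_
      · simp [IsScalarTower.algebraMap_apply k k[X] 𝔹]
      · simp [yv]
    rw [this]
    rfl

theorem core [IsAlgClosed k] [Module.Finite k (𝔹 ⧸ a)] (hy : yv ∉ a)
    (hrad : a.radical = Ideal.span {yv, X}) :
    ∃ J : Ideal (Polynomial 𝔹),
      RingHom.Flat (R := k[X]) (S := Polynomial 𝔹 ⧸ J)
        ((Ideal.Quotient.mk J).comp (mapRingHom (algebraMap k 𝔹))) ∧
      RingHom.Finite (A := k[X]) (B := Polynomial 𝔹 ⧸ J)
        ((Ideal.Quotient.mk J).comp (mapRingHom (algebraMap k 𝔹))) ∧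
      J.map (evalRingHom (0 : 𝔹)) = a ∧
      ∀ c : k, c ≠ 0 → J.map (evalRingHom (algebraMap k 𝔹 c)) ≤ Ideal.span {yv, X} ∧
        ∃ ρ : k, J.map (evalRingHom (algebraMap k 𝔹 c)) ≤
          Ideal.span {yv - algebraMap k 𝔹 c, X - algebraMap k 𝔹 ρ} := by
  have hle : a ≤ Ideal.span {yv, X} := Ideal.le_radical.trans hrad.le
  have hx : ∃ M : ℕ, (X : 𝔹) ^ M ∈ a :=
    Ideal.mem_radical_iff.1 (hrad.ge (Ideal.subset_span (by simp)))
  obtain ⟨N, hN⟩ : ∃ N : ℕ, (yv : 𝔹) ^ N ∈ a :=
    Ideal.mem_radical_iff.1 (hrad.ge (Ideal.subset_span (by simp)))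
  obtain ⟨e, he, hmap⟩ := exists_map_eq_span_X_pow a hx hle
  obtain ⟨f, hfa, hfm, hfd, hfy⟩ := exists_monic a e N hmap hN
  let b := a.colon {yv (k := k)}
  have hab : a ≤ b := fun z hz => Submodule.mem_colon_singleton.2 (a.mul_mem_right _ hz)
  haveI : Module.Finite k (𝔹 ⧸ b) :=
    Module.Finite.of_surjective (Ideal.Quotient.factorₐ k hab).toLinearMap
      (Ideal.Quotient.factor_surjective hab)
  obtain ⟨h1, h2⟩ := finite_flat_famIdeal f b hfm (hab hfa)
  refine ⟨famIdeal f b, h1, h2, ?_, fun c _ => ⟨?_, ?_⟩⟩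
  · have := map_eval_famIdeal f b (0 : k)
    rw [map_zero, sub_zero] at this
    rw [this]
    exact eq_sup_yv a e hfa hfm hfd hmap
  · rw [map_eval_famIdeal]
    refine sup_le ((Ideal.span_singleton_le_iff_mem _).2 (hle hfa)) (Ideal.mul_le_right.trans ?_)
    intro z hz
    have hmem : z * yv ∈ a := Submodule.mem_colon_singleton.1 hz
    obtain ⟨r, hr⟩ : yv (k := k) ∣ C (z.coeff 0) - C (C ((z.coeff 0).coeff 0)) := by
      rw [← map_sub]
      exact map_dvd C (X_dvd_sub_C (p := z.coeff 0))
    obtain ⟨q, hq⟩ := X_dvd_sub_C (p := z)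
    set c₀ : k := (z.coeff 0).coeff 0
    let m : 𝔹 := X * q + yv * r
    have hmm : m ∈ Ideal.span {yv, X} := Ideal.mem_span_pair.2 ⟨r, q, by ring⟩
    have hz' : z = m + C (C c₀) := by
      show z = X * q + yv * r + C (C c₀)
      rw [← hq, ← hr]
      ring
    rw [hz']
    refine add_mem hmm ?_
    by_cases hc₀ : c₀ = 0
    · simp [hc₀]
    · exfalso
      obtain ⟨n, hn⟩ := Ideal.mem_radical_iff.1 (hrad.ge hmm)
      have hu : (C (C c₀⁻¹) : 𝔹) * C (C c₀) = 1 := by
        rw [← map_mul, ← map_mul, inv_mul_cancel₀ hc₀, map_one, map_one]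
      have key : ∀ j : ℕ, yv - (-C (C c₀⁻¹) * m) ^ j * yv ∈ a := by
        intro j
        induction j with
        | zero => simp
        | succ j ih =>
          have e : yv - (-C (C c₀⁻¹) * m) ^ (j + 1) * yv = (yv - (-C (C c₀⁻¹) * m) ^ j * yv) +
              ((-C (C c₀⁻¹) * m) ^ j * C (C c₀⁻¹)) * (z * yv) := by
            rw [hz']
            linear_combination (-((-C (C c₀⁻¹) * m) ^ j * yv)) * hu
          rw [e]
          exact add_mem ih (a.mul_mem_left _ hmem)
      refine hy ?_
      have h3 := add_mem (key n) (a.mul_mem_right yv (a.mul_mem_left ((-C (C c₀⁻¹)) ^ n) hn))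
      rwa [← mul_pow, sub_add_cancel] at h3
  · let g : k[X] := f.map (evalRingHom c)
    have hg : g.degree ≠ 0 := by
      rw [hfm.degree_map, degree_eq_natDegree hfm.ne_zero, hfd]
      exact_mod_cast he.ne'
    obtain ⟨ρ, hρ⟩ := IsAlgClosed.exists_root g hg
    refine ⟨ρ, ?_⟩
    rw [map_eval_famIdeal]
    refine sup_le ((Ideal.span_singleton_le_iff_mem _).2 ?_) (Ideal.mul_le_left.trans
      (Ideal.span_mono (by simp)))
    have e1 : algebraMap k 𝔹 c = C (C c) := rfl
    have e2 : algebraMap k 𝔹 ρ = C (C ρ) := rfl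
    rw [e1, e2, ← map_sub]
    have hroot : (f.eval (C ρ)).eval c = 0 := by
      have h3 : g.eval ρ = 0 := hρ
      rw [← h3]
      show (evalRingHom c) (f.eval (C ρ)) = (f.map (evalRingHom c)).eval ρ
      rw [← eval₂_hom, eval_map]
      simp
    obtain ⟨q, hq⟩ := X_sub_C_dvd_sub_C_eval (p := f) (a := C ρ)
    obtain ⟨r, hr⟩ := dvd_iff_isRoot.2 hroot
    refine Ideal.mem_span_pair.2 ⟨C r, q, ?_⟩
    rw [mul_comm q, ← hq, ← map_mul, mul_comm r, ← hr]
    ring

end Groth.Agent.H23PullApart
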