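import Mathlib
import Groth.Agent.H23PullApart.Core
set_option linter.style.haveILetI false

/-!
Pulling apart a punctual ideal of the plane.
-/

universe u

open Polynomial
set_option synthInstance.maxSize 1024
set_option synthInstance.maxHeartbeats 200000
set_option maxSynthPendingDepth 5

namespace Groth.Agent.H23PullApart

variable {k : Type u} [Field k]

local notation "𝔸₂" => MvPolynomial (Fin 2) k

theorem ringHom_transport {R R' : Type u} [CommRing R] [CommRing R'] [Algebra k R] [Algebra k R']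
    (Φ : R ≃ₐ[k] R') (J : Ideal R[X])
    (hF : RingHom.Flat (R := k[X]) (S := R[X] ⧸ J)
      ((Ideal.Quotient.mk J).comp (mapRingHom (algebraMap k R))))
    (hFin : RingHom.Finite (A := k[X]) (B := R[X] ⧸ J)
      ((Ideal.Quotient.mk J).comp (mapRingHom (algebraMap k R)))) :
    RingHom.Flat (R := k[X]) (S := R'[X] ⧸ J.map (Polynomial.mapEquiv Φ.toRingEquiv).toRingHom)
      ((Ideal.Quotient.mk _).comp (mapRingHom (algebraMap k R'))) ∧
    RingHom.Finite (A := k[X]) (B := R'[X] ⧸ J.map (Polynomial.mapEquiv Φ.toRingEquiv).toRingHom)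
      ((Ideal.Quotient.mk _).comp (mapRingHom (algebraMap k R'))) := by
  let J' := J.map (Polynomial.mapEquiv Φ.toRingEquiv).toRingHom
  let e : (R[X] ⧸ J) ≃+* (R'[X] ⧸ J') :=
    Ideal.quotientEquiv J J' (Polynomial.mapEquiv Φ.toRingEquiv) rfl
  have hcomp : (Ideal.Quotient.mk J').comp (mapRingHom (algebraMap k R')) =
      e.toRingHom.comp ((Ideal.Quotient.mk J).comp (mapRingHom (algebraMap k R))) := by
    refine RingHom.ext fun p => ?_
    show Ideal.Quotient.mk J' (p.map (algebraMap k R')) =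
      Ideal.Quotient.mk J' ((p.map (algebraMap k R)).map Φ.toRingEquiv.toRingHom)
    rw [Polynomial.map_map]
    congr 2
    exact RingHom.ext fun c => (Φ.commutes c).symm
  constructor
  · rw [hcomp]
    exact RingHom.Flat.comp hF (RingHom.Flat.of_bijective e.bijective)
  · rw [hcomp]
    exact RingHom.Finite.comp (RingHom.Finite.of_surjective _ e.surjective) hFin

theorem map_eval_transport {R R' : Type u} [CommRing R] [CommRing R'] [Algebra k R] [Algebra k R']
    (Φ : R ≃ₐ[k] R') (J : Ideal R[X]) (z : k) :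
    (J.map (Polynomial.mapEquiv Φ.toRingEquiv).toRingHom).map (evalRingHom (algebraMap k R' z)) =
      (J.map (evalRingHom (algebraMap k R z))).map Φ.toRingEquiv.toRingHom := by
  rw [Ideal.map_map, Ideal.map_map]
  congr 1
  refine Polynomial.ringHom_ext (fun c => ?_) ?_
  · simp
  · simp

theorem transport [IsAlgClosed k] (𝔞 : Ideal (MvPolynomial (Fin 2) k))
    [Module.Finite k (MvPolynomial (Fin 2) k ⧸ 𝔞)]
    (Φ : Polynomial (Polynomial k) ≃ₐ[k] MvPolynomial (Fin 2) k) (i j : Fin 2)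
    (hij : ∀ l : Fin 2, l = i ∨ l = j) (hne : i ≠ j)
    (hX : Φ X = MvPolynomial.X i) (hY : Φ yv = MvPolynomial.X j)
    (hy : MvPolynomial.X j ∉ 𝔞)
    (hsupp : 𝔞.radical = Ideal.span {MvPolynomial.X 0, MvPolynomial.X 1}) :
    ∃ 𝔞' : Ideal (MvPolynomial (Fin 2) k)[X],
      RingHom.Flat (R := k[X]) (S := (MvPolynomial (Fin 2) k)[X] ⧸ 𝔞')
        ((Ideal.Quotient.mk 𝔞').comp (Polynomial.mapRingHom (algebraMap k (MvPolynomial (Fin 2) k)))) ∧
      RingHom.Finite (A := k[X]) (B := (MvPolynomial (Fin 2) k)[X] ⧸ 𝔞')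
        ((Ideal.Quotient.mk 𝔞').comp (Polynomial.mapRingHom (algebraMap k (MvPolynomial (Fin 2) k)))) ∧
      Ideal.map (Polynomial.evalRingHom (0 : MvPolynomial (Fin 2) k)) 𝔞' = 𝔞 ∧
      ∀ c : k, c ≠ 0 →
        Ideal.map (Polynomial.evalRingHom (MvPolynomial.C c)) 𝔞' ≤ Ideal.span {MvPolynomial.X 0, MvPolynomial.X 1} ∧
        ∃ p : Fin 2 → k, p ≠ 0 ∧
          Ideal.map (Polynomial.evalRingHom (MvPolynomial.C c)) 𝔞' ≤
            Ideal.span (Set.range (fun i : Fin 2 => MvPolynomial.X i - MvPolynomial.C (p i))) := by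
  have hspan : Ideal.span {(MvPolynomial.X 0 : 𝔸₂), MvPolynomial.X 1} =
      Ideal.span {MvPolynomial.X j, MvPolynomial.X i} := by
    congr 1
    fin_cases i <;> fin_cases j <;> first | exact absurd rfl hne | (ext; simp [or_comm])
  let a := 𝔞.comap Φ.toRingEquiv.toRingHom
  have ha : a.map Φ.toRingEquiv.toRingHom = 𝔞 := Ideal.map_comap_of_surjective _ Φ.surjective _
  have hmap2 : (Ideal.span {yv (k := k), X}).map Φ.toRingEquiv.toRingHom =
      Ideal.span {(MvPolynomial.X 0 : 𝔸₂), MvPolynomial.X 1} := by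
    rw [hspan, Ideal.map_span, Set.image_insert_eq, Set.image_singleton]
    show Ideal.span {Φ yv, Φ X} = _
    rw [hX, hY]
  haveI : Module.Finite k (Polynomial (Polynomial k) ⧸ a) :=
    Module.Finite.equiv (Ideal.quotientEquivAlg a 𝔞 Φ ha.symm).symm.toLinearEquiv
  have hrad : a.radical = Ideal.span {yv, X} := by
    rw [← Ideal.comap_radical, hsupp, ← hmap2]
    exact Ideal.comap_map_of_bijective _ Φ.toRingEquiv.bijective
  obtain ⟨J, hF, hFin, h0, hc⟩ := core a (fun h => hy (hY ▸ h)) hrad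
  obtain ⟨h1', h2'⟩ := ringHom_transport Φ J hF hFin
  refine ⟨_, h1', h2', ?_, fun c hc' => ?_⟩
  · have := map_eval_transport Φ J (0 : k)
    rw [map_zero, map_zero, h0] at this
    exact this.trans ha
  · obtain ⟨h1, ρ, h2⟩ := hc c hc'
    rw [show (MvPolynomial.C c : 𝔸₂) = algebraMap k 𝔸₂ c from rfl, map_eval_transport Φ J c]
    refine ⟨(Ideal.map_mono h1).trans hmap2.le, fun l => if l = i then ρ else c,
      fun h => hc' (by simpa [hne.symm] using congrFun h j), ?_⟩
    refine (Ideal.map_mono h2).trans ?_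
    rw [Ideal.map_span, Ideal.span_le]
    rintro _ ⟨z, hz | hz, rfl⟩
    · subst hz
      refine Ideal.subset_span ⟨j, ?_⟩
      simp [hne.symm, hY, show (MvPolynomial.C c : 𝔸₂) = algebraMap k 𝔸₂ c from rfl]
    · rw [Set.mem_singleton_iff] at hz
      subst hz
      refine Ideal.subset_span ⟨i, ?_⟩
      simp [hX, show (MvPolynomial.C ρ : 𝔸₂) = algebraMap k 𝔸₂ ρ from rfl]

theorem exists_equiv (i j : Fin 2) (hij : ∀ l : Fin 2, l = i ∨ l = j) (hne : i ≠ j) :
    ∃ Φ : Polynomial (Polynomial k) ≃ₐ[k] MvPolynomial (Fin 2) k,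
      Φ X = MvPolynomial.X i ∧ Φ yv = MvPolynomial.X j := by
  let F : Polynomial (Polynomial k) →ₐ[k] MvPolynomial (Fin 2) k :=
    { eval₂RingHom (aeval (MvPolynomial.X j : MvPolynomial (Fin 2) k)).toRingHom (MvPolynomial.X i) with
      commutes' := fun c => by simp [IsScalarTower.algebraMap_apply k (Polynomial k) (Polynomial (Polynomial k))] }
  let G : MvPolynomial (Fin 2) k →ₐ[k] Polynomial (Polynomial k) :=
    MvPolynomial.aeval fun l => if l = i then X else C X
  have hFX : F X = MvPolynomial.X i := eval₂_X _ _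
  have hFY : F yv = MvPolynomial.X j := by simp [F, yv]
  refine ⟨AlgEquiv.ofAlgHom F G ?_ ?_, hFX, hFY⟩
  · refine MvPolynomial.algHom_ext fun l => ?_
    rcases hij l with rfl | rfl
    · simp [G, hFX]
    · simpa [G, hne.symm] using hFY
  · refine AlgHom.coe_ringHom_injective (Polynomial.ringHom_ext' (Polynomial.ringHom_ext (fun c => ?_) ?_) ?_)
    · exact (G.comp F).commutes c
    · show G (F yv) = yv
      simp [hFY, G, hne.symm]
    · show G (F X) = X
      simp [hFX, G]

theorem main [IsAlgClosed k] (𝔞 : Ideal (MvPolynomial (Fin 2) k))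
    [Module.Finite k (MvPolynomial (Fin 2) k ⧸ 𝔞)]
    (hn : 2 ≤ Module.finrank k (MvPolynomial (Fin 2) k ⧸ 𝔞))
    (hsupp : 𝔞.radical = Ideal.span {MvPolynomial.X 0, MvPolynomial.X 1}) :
    ∃ 𝔞' : Ideal (MvPolynomial (Fin 2) k)[X],
      RingHom.Flat (R := k[X]) (S := (MvPolynomial (Fin 2) k)[X] ⧸ 𝔞')
        ((Ideal.Quotient.mk 𝔞').comp (Polynomial.mapRingHom (algebraMap k (MvPolynomial (Fin 2) k)))) ∧
      RingHom.Finite (A := k[X]) (B := (MvPolynomial (Fin 2) k)[X] ⧸ 𝔞')
        ((Ideal.Quotient.mk 𝔞').comp (Polynomial.mapRingHom (algebraMap k (MvPolynomial (Fin 2) k)))) ∧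
      Ideal.map (Polynomial.evalRingHom (0 : MvPolynomial (Fin 2) k)) 𝔞' = 𝔞 ∧
      ∀ c : k, c ≠ 0 →
        Ideal.map (Polynomial.evalRingHom (MvPolynomial.C c)) 𝔞' ≤ Ideal.span {MvPolynomial.X 0, MvPolynomial.X 1} ∧
        ∃ p : Fin 2 → k, p ≠ 0 ∧
          Ideal.map (Polynomial.evalRingHom (MvPolynomial.C c)) 𝔞' ≤
            Ideal.span (Set.range (fun i : Fin 2 => MvPolynomial.X i - MvPolynomial.C (p i))) := by
  by_cases h1 : MvPolynomial.X (1 : Fin 2) ∈ 𝔞
  · have h0 : MvPolynomial.X (0 : Fin 2) ∉ 𝔞 := by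
      intro h0
      have hall : ∀ z : MvPolynomial (Fin 2) k, z - MvPolynomial.C (MvPolynomial.constantCoeff z) ∈ 𝔞 := by
        intro z
        induction z using MvPolynomial.induction_on with
        | C a => simp
        | add p q hp hq =>
          rw [map_add, map_add, add_sub_add_comm]
          exact add_mem hp hq
        | mul_X p l hp =>
          rw [map_mul, MvPolynomial.constantCoeff_X, mul_zero, map_zero, sub_zero]
          refine Ideal.mul_mem_left _ _ ?_
          fin_cases l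
          · exact h0
          · exact h1
      have hsurj : Function.Surjective (Algebra.linearMap k (MvPolynomial (Fin 2) k ⧸ 𝔞)) := by
        intro z
        obtain ⟨z, rfl⟩ := Ideal.Quotient.mk_surjective z
        refine ⟨MvPolynomial.constantCoeff z, ?_⟩
        rw [eq_comm, Algebra.linearMap_apply]
        show Ideal.Quotient.mk 𝔞 z = Ideal.Quotient.mk 𝔞 (MvPolynomial.C (MvPolynomial.constantCoeff z))
        rw [Ideal.Quotient.mk_eq_mk_iff_sub_mem]
        exact hall z
      have h2 := (Algebra.linearMap k (MvPolynomial (Fin 2) k ⧸ 𝔞)).finrank_range_le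
      rw [LinearMap.range_eq_top.2 hsurj, finrank_top, Module.finrank_self] at h2
      omega
    have hcase : ∀ l : Fin 2, l = 1 ∨ l = 0 := by decide
    obtain ⟨Φ, hX, hY⟩ := exists_equiv (k := k) 1 0 hcase (by decide)
    exact transport 𝔞 Φ 1 0 hcase (by decide) hX hY h0 hsupp
  · have hcase : ∀ l : Fin 2, l = 0 ∨ l = 1 := by decide
    obtain ⟨Φ, hX, hY⟩ := exists_equiv (k := k) 0 1 hcase (by decide)
    exact transport 𝔞 Φ 0 1 hcase (by decide) hX hY h1 hsupp

end Groth.Agent.H23PullApart
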